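import Cfsg.Agent.H29.CosetCert.SuzOrder.L0S0

/-! Certificate data for the order of Suz, produced outside Lean and checked here. -/

set_option autoImplicit false
set_option maxRecDepth 16000
set_option Elab.async false

namespace H29.CosetCert.SuzLvl0

open H29.CosetCert

theorem deds : ∀ k, lvl.nd ≤ k → k < lvl.N → ∃ s, chkDed lvl.F lvl.R lvl.S k s = true := by
  intro k h1 h2
  change 933 ≤ k at h1
  change k < 3027 at h2
  by_cases c0 : k < 1189
  · exact chkList_get _ _ _ st0 933 st0_ok.1 k (by omega) (by rw [st0_ok.2]; omega)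
  by_cases c1 : k < 1445
  · exact chkList_get _ _ _ st1 1189 st1_ok.1 k (by omega) (by rw [st1_ok.2]; omega)
  by_cases c2 : k < 1701
  · exact chkList_get _ _ _ st2 1445 st2_ok.1 k (by omega) (by rw [st2_ok.2]; omega)
  by_cases c3 : k < 1957
  · exact chkList_get _ _ _ st3 1701 st3_ok.1 k (by omega) (by rw [st3_ok.2]; omega)
  by_cases c4 : k < 2213
  · exact chkList_get _ _ _ st4 1957 st4_ok.1 k (by omega) (by rw [st4_ok.2]; omega)
  by_cases c5 : k < 2469
  · exact chkList_get _ _ _ st5 2213 st5_ok.1 k (by omega) (by rw [st5_ok.2]; omega)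
  by_cases c6 : k < 2725
  · exact chkList_get _ _ _ st6 2469 st6_ok.1 k (by omega) (by rw [st6_ok.2]; omega)
  by_cases c7 : k < 2981
  · exact chkList_get _ _ _ st7 2725 st7_ok.1 k (by omega) (by rw [st7_ok.2]; omega)
  by_cases c8 : k < 3027
  · exact chkList_get _ _ _ st8 2981 st8_ok.1 k (by omega) (by rw [st8_ok.2]; omega)
  omega

end H29.CosetCert.SuzLvl0
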