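import Cfsg.Agent.H29.CosetCert.SuzOrder.L1S0

/-! Certificate data for the order of Suz, produced outside Lean and checked here. -/

set_option autoImplicit false
set_option maxRecDepth 16000
set_option Elab.async false

namespace H29.CosetCert.SuzLvl1

open H29.CosetCert

theorem deds : ∀ k, lvl.nd ≤ k → k < lvl.N → ∃ s, chkDed lvl.F lvl.R lvl.S k s = true := by
  intro k h1 h2
  change 638 ≤ k at h1
  change k < 1785 at h2
  by_cases c0 : k < 894
  · exact chkList_get _ _ _ st0 638 st0_ok.1 k (by omega) (by rw [st0_ok.2]; omega)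
  by_cases c1 : k < 1150
  · exact chkList_get _ _ _ st1 894 st1_ok.1 k (by omega) (by rw [st1_ok.2]; omega)
  by_cases c2 : k < 1406
  · exact chkList_get _ _ _ st2 1150 st2_ok.1 k (by omega) (by rw [st2_ok.2]; omega)
  by_cases c3 : k < 1662
  · exact chkList_get _ _ _ st3 1406 st3_ok.1 k (by omega) (by rw [st3_ok.2]; omega)
  by_cases c4 : k < 1785
  · exact chkList_get _ _ _ st4 1662 st4_ok.1 k (by omega) (by rw [st4_ok.2]; omega)
  omega

end H29.CosetCert.SuzLvl1
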