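import Cfsg.Agent.H29.CosetCert.SuzOrder.L2S0

/-! Certificate data for the order of Suz, produced outside Lean and checked here. -/

set_option autoImplicit false
set_option maxRecDepth 16000
set_option Elab.async false

namespace H29.CosetCert.SuzLvl2

open H29.CosetCert

theorem deds : ∀ k, lvl.nd ≤ k → k < lvl.N → ∃ s, chkDed lvl.F lvl.R lvl.S k s = true := by
  intro k h1 h2
  change 936 ≤ k at h1
  change k < 2292 at h2
  by_cases c0 : k < 1192
  · exact chkList_get _ _ _ st0 936 st0_ok.1 k (by omega) (by rw [st0_ok.2]; omega)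
  by_cases c1 : k < 1448
  · exact chkList_get _ _ _ st1 1192 st1_ok.1 k (by omega) (by rw [st1_ok.2]; omega)
  by_cases c2 : k < 1704
  · exact chkList_get _ _ _ st2 1448 st2_ok.1 k (by omega) (by rw [st2_ok.2]; omega)
  by_cases c3 : k < 1960
  · exact chkList_get _ _ _ st3 1704 st3_ok.1 k (by omega) (by rw [st3_ok.2]; omega)
  by_cases c4 : k < 2216
  · exact chkList_get _ _ _ st4 1960 st4_ok.1 k (by omega) (by rw [st4_ok.2]; omega)
  by_cases c5 : k < 2292
  · exact chkList_get _ _ _ st5 2216 st5_ok.1 k (by omega) (by rw [st5_ok.2]; omega)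
  omega

end H29.CosetCert.SuzLvl2
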