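import Cfsg.Agent.H29.CosetCert.SuzOrder.Slp
import Cfsg.Agent.H29.CosetCert.Suz.Table

/-! Certificate data for the order of Suz, produced outside Lean and checked here. -/

set_option autoImplicit false
set_option maxRecDepth 16000
set_option Elab.async false

namespace H29.CosetCert.SuzSlp

open H29.CosetCert

theorem entry1 : slp.entryOK SuzData.T 1782 1 = true := by decide +kernel

theorem entry5 : slp.entryOK SuzData.T 1782 5 = true := by decide +kernel

theorem entry12 : slp.entryOK SuzData.T 1782 12 = true := by decide +kernel

theorem entry13 : slp.entryOK SuzData.T 1782 13 = true := by decide +kernel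

theorem entry14 : slp.entryOK SuzData.T 1782 14 = true := by decide +kernel

theorem entry18 : slp.entryOK SuzData.T 1782 18 = true := by decide +kernel

theorem entry22 : slp.entryOK SuzData.T 1782 22 = true := by decide +kernel

theorem entry31 : slp.entryOK SuzData.T 1782 31 = true := by decide +kernel

theorem entry33 : slp.entryOK SuzData.T 1782 33 = true := by decide +kernel

theorem entry37 : slp.entryOK SuzData.T 1782 37 = true := by decide +kernel

theorem entry39 : slp.entryOK SuzData.T 1782 39 = true := by decide +kernel

theorem entry46 : slp.entryOK SuzData.T 1782 46 = true := by decide +kernel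

theorem entry48 : slp.entryOK SuzData.T 1782 48 = true := by decide +kernel

theorem entry52 : slp.entryOK SuzData.T 1782 52 = true := by decide +kernel

end H29.CosetCert.SuzSlp
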