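import Cfsg.Agent.H29.CosetCert.SuzOrder.Slp
import Cfsg.Agent.H29.CosetCert.Suz.Table

/-! Certificate data for the order of Suz, produced outside Lean and checked here. -/

set_option autoImplicit false
set_option maxRecDepth 16000
set_option Elab.async false

namespace H29.CosetCert.SuzSlp

open H29.CosetCert

theorem entry0 : slp.entryOK SuzData.T 1782 0 = true := by decide +kernel

theorem entry2 : slp.entryOK SuzData.T 1782 2 = true := by decide +kernel

theorem entry6 : slp.entryOK SuzData.T 1782 6 = true := by decide +kernel

theorem entry7 : slp.entryOK SuzData.T 1782 7 = true := by decide +kernel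

theorem entry9 : slp.entryOK SuzData.T 1782 9 = true := by decide +kernel

theorem entry15 : slp.entryOK SuzData.T 1782 15 = true := by decide +kernel

theorem entry21 : slp.entryOK SuzData.T 1782 21 = true := by decide +kernel

theorem entry24 : slp.entryOK SuzData.T 1782 24 = true := by decide +kernel

theorem entry26 : slp.entryOK SuzData.T 1782 26 = true := by decide +kernel

theorem entry29 : slp.entryOK SuzData.T 1782 29 = true := by decide +kernel

theorem entry40 : slp.entryOK SuzData.T 1782 40 = true := by decide +kernel

theorem entry41 : slp.entryOK SuzData.T 1782 41 = true := by decide +kernel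

theorem entry44 : slp.entryOK SuzData.T 1782 44 = true := by decide +kernel

theorem entry50 : slp.entryOK SuzData.T 1782 50 = true := by decide +kernel

theorem entry55 : slp.entryOK SuzData.T 1782 55 = true := by decide +kernel

end H29.CosetCert.SuzSlp
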