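import Cfsg.Agent.H29.CosetCert.SuzOrder.Slp
import Cfsg.Agent.H29.CosetCert.Suz.Table

/-! Certificate data for the order of Suz, produced outside Lean and checked here. -/

set_option autoImplicit false
set_option maxRecDepth 16000
set_option Elab.async false

namespace H29.CosetCert.SuzSlp

open H29.CosetCert

theorem entry3 : slp.entryOK SuzData.T 1782 3 = true := by decide +kernel

theorem entry8 : slp.entryOK SuzData.T 1782 8 = true := by decide +kernel

theorem entry10 : slp.entryOK SuzData.T 1782 10 = true := by decide +kernel

theorem entry16 : slp.entryOK SuzData.T 1782 16 = true := by decide +kernel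

theorem entry19 : slp.entryOK SuzData.T 1782 19 = true := by decide +kernel

theorem entry23 : slp.entryOK SuzData.T 1782 23 = true := by decide +kernel

theorem entry28 : slp.entryOK SuzData.T 1782 28 = true := by decide +kernel

theorem entry34 : slp.entryOK SuzData.T 1782 34 = true := by decide +kernel

theorem entry38 : slp.entryOK SuzData.T 1782 38 = true := by decide +kernel

theorem entry42 : slp.entryOK SuzData.T 1782 42 = true := by decide +kernel

theorem entry43 : slp.entryOK SuzData.T 1782 43 = true := by decide +kernel

theorem entry49 : slp.entryOK SuzData.T 1782 49 = true := by decide +kernel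

theorem entry51 : slp.entryOK SuzData.T 1782 51 = true := by decide +kernel

end H29.CosetCert.SuzSlp
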