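import Cfsg.Agent.H29.CosetCert.SuzOrder.Slp0
import Cfsg.Agent.H29.CosetCert.SuzOrder.Slp1
import Cfsg.Agent.H29.CosetCert.SuzOrder.Slp2
import Cfsg.Agent.H29.CosetCert.SuzOrder.Slp3
import Cfsg.Agent.H29.CosetCert.SuzOrder.SlpNorm

/-! Certificate data for the order of Suz, produced outside Lean and checked here. -/

set_option autoImplicit false
set_option maxRecDepth 16000
set_option Elab.async false

namespace H29.CosetCert.SuzSlp

open H29.CosetCert

theorem entries_ok : allIn (slp.entryOK SuzData.T 1782) 0 slp.K = true := by
  rw [allIn_iff]
  intro k _ hk
  change k < 0 + 56 at hk
  interval_cases k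
  · exact entry0
  · exact entry1
  · exact entry2
  · exact entry3
  · exact entry4
  · exact entry5
  · exact entry6
  · exact entry7
  · exact entry8
  · exact entry9
  · exact entry10
  · exact entry11
  · exact entry12
  · exact entry13
  · exact entry14
  · exact entry15
  · exact entry16
  · exact entry17
  · exact entry18
  · exact entry19
  · exact entry20
  · exact entry21
  · exact entry22
  · exact entry23
  · exact entry24
  · exact entry25
  · exact entry26
  · exact entry27
  · exact entry28
  · exact entry29
  · exact entry30
  · exact entry31
  · exact entry32
  · exact entry33
  · exact entry34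
  · exact entry35
  · exact entry36
  · exact entry37
  · exact entry38
  · exact entry39
  · exact entry40
  · exact entry41
  · exact entry42
  · exact entry43
  · exact entry44
  · exact entry45
  · exact entry46
  · exact entry47
  · exact entry48
  · exact entry49
  · exact entry50
  · exact entry51
  · exact entry52
  · exact entry53
  · exact entry54
  · exact entry55

end H29.CosetCert.SuzSlp
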