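import Cfsg.Agent.H29.CosetCert.Suz.Cert
import Cfsg.Agent.H29.CosetCert.Suz.Cert
import Cfsg.Agent.H29.CosetCert.Suz.Orbits
import Cfsg.Agent.H29.CosetCert.SuzOrder.SlpAll
import Cfsg.Agent.H29.CosetCert.SuzOrder.L0Deds
import Cfsg.Agent.H29.CosetCert.SuzOrder.L1Deds
import Cfsg.Agent.H29.CosetCert.SuzOrder.L2Deds
import Cfsg.Agent.H29.CosetCert.SuzOrder.L3Deds
import Cfsg.Agent.H29.CosetCert.SuzOrder.L4Deds

/-! Order and simplicity of the presented group Suz. -/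

set_option autoImplicit false

namespace H29.CosetCert.SuzOrd

open H29.CosetCert

theorem bound4 : (maskGroup SuzCert.g 1 : Set Cfsg.Spor.Suz).Finite ∧
    (maskGroup SuzCert.g 1 : Set Cfsg.Spor.Suz).ncard ≤ 2 := by
  obtain ⟨hf, hb⟩ : (maskGroup SuzCert.g 0 : Set Cfsg.Spor.Suz).Finite ∧
      (maskGroup SuzCert.g 0 : Set Cfsg.Spor.Suz).ncard ≤ 1 := card_maskGroup_zero _
  exact card_maskGroup_le SuzCert.g (genAt_sq _ _ SuzCert.L SuzCert.L_nodes) SuzLvl4.lvl
    (rels_of_classified _ _ SuzCert.L SuzCert.L_all SuzCert.L_nodes (E := SuzCert.E) (by decide +kernel) SuzCert.E_gen)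
    SuzLvl4.words_ok SuzLvl4.defs_ok SuzLvl4.deds SuzLvl4.node0 (show 0 < 2 by norm_num) SuzLvl4.closed
    (b := 1) hf hb

theorem bound3 : (maskGroup SuzCert.g 3 : Set Cfsg.Spor.Suz).Finite ∧
    (maskGroup SuzCert.g 3 : Set Cfsg.Spor.Suz).ncard ≤ 10 := by
  obtain ⟨hf, hb⟩ : (maskGroup SuzCert.g 1 : Set Cfsg.Spor.Suz).Finite ∧
      (maskGroup SuzCert.g 1 : Set Cfsg.Spor.Suz).ncard ≤ 2 := bound4
  exact card_maskGroup_le SuzCert.g (genAt_sq _ _ SuzCert.L SuzCert.L_nodes) SuzLvl3.lvl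
    (rels_of_classified _ _ SuzCert.L SuzCert.L_all SuzCert.L_nodes (E := SuzCert.E) (by decide +kernel) SuzCert.E_gen)
    SuzLvl3.words_ok SuzLvl3.defs_ok SuzLvl3.deds SuzLvl3.node0 (show 0 < 5 by norm_num) SuzLvl3.closed
    (b := 2) hf hb

theorem bound2 : (maskGroup SuzCert.g 15 : Set Cfsg.Spor.Suz).Finite ∧
    (maskGroup SuzCert.g 15 : Set Cfsg.Spor.Suz).ncard ≤ 2160 := by
  obtain ⟨hf, hb⟩ : (maskGroup SuzCert.g 3 : Set Cfsg.Spor.Suz).Finite ∧
      (maskGroup SuzCert.g 3 : Set Cfsg.Spor.Suz).ncard ≤ 10 := bound3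
  exact card_maskGroup_le SuzCert.g (genAt_sq _ _ SuzCert.L SuzCert.L_nodes) SuzLvl2.lvl
    (rels_of_classified _ _ SuzCert.L SuzCert.L_all SuzCert.L_nodes (E := SuzCert.E) (by decide +kernel) SuzCert.E_gen)
    SuzLvl2.words_ok SuzLvl2.defs_ok SuzLvl2.deds SuzLvl2.node0 (show 0 < 216 by norm_num) SuzLvl2.closed
    (b := 10) hf hb

theorem bound1 : (maskGroup SuzCert.g 31 : Set Cfsg.Spor.Suz).Finite ∧
    (maskGroup SuzCert.g 31 : Set Cfsg.Spor.Suz).ncard ≤ 604800 := by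
  obtain ⟨hf, hb⟩ : (maskGroup SuzCert.g 15 : Set Cfsg.Spor.Suz).Finite ∧
      (maskGroup SuzCert.g 15 : Set Cfsg.Spor.Suz).ncard ≤ 2160 := bound2
  exact card_maskGroup_le SuzCert.g (genAt_sq _ _ SuzCert.L SuzCert.L_nodes) SuzLvl1.lvl
    (rels_of_classified _ _ SuzCert.L SuzCert.L_all SuzCert.L_nodes (E := SuzCert.E) (by decide +kernel) SuzCert.E_gen)
    SuzLvl1.words_ok SuzLvl1.defs_ok SuzLvl1.deds SuzLvl1.node0 (show 0 < 280 by norm_num) SuzLvl1.closed
    (b := 2160) hf hb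

theorem bound0 : (maskGroup SuzCert.g 63 : Set Cfsg.Spor.Suz).Finite ∧
    (maskGroup SuzCert.g 63 : Set Cfsg.Spor.Suz).ncard ≤ 251596800 := by
  obtain ⟨hf, hb⟩ : (maskGroup SuzCert.g 31 : Set Cfsg.Spor.Suz).Finite ∧
      (maskGroup SuzCert.g 31 : Set Cfsg.Spor.Suz).ncard ≤ 604800 := bound1
  exact card_maskGroup_le SuzCert.g (genAt_sq _ _ SuzCert.L SuzCert.L_nodes) SuzLvl0.lvl
    (rels_of_classified _ _ SuzCert.L SuzCert.L_all SuzCert.L_nodes (E := SuzCert.E) (by decide +kernel) SuzCert.E_gen)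
    SuzLvl0.words_ok SuzLvl0.defs_ok SuzLvl0.deds SuzLvl0.node0 (show 0 < 416 by norm_num) SuzLvl0.closed
    (b := 604800) hf hb

theorem mask_eq : maskGroup SuzCert.g 63 = SuzCert.H := by
  refine congrArg Subgroup.closure (Set.ext fun e => ?_)
  constructor
  · rintro ⟨x, hx, rfl⟩
    have hlt : x < 9 := by
      by_contra h
      rw [Nat.testBit_lt_two_pow (lt_of_lt_of_le (show 63 < 2 ^ 9 by norm_num)
        (Nat.pow_le_pow_right (by norm_num) (by omega)))] at hx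
      simp at hx
    interval_cases x <;> first
      | (simp [Nat.testBit, Nat.shiftRight_eq_div_pow] at hx; done)
      | (simp [SuzData.S, SuzCert.g, SuzCert.g, genAt])
  · intro he
    simp [SuzData.S, SuzCert.g, genAt] at he
    rcases he with rfl | rfl | rfl | rfl | rfl | rfl
    · exact ⟨0, by decide, rfl⟩
    · exact ⟨1, by decide, rfl⟩
    · exact ⟨2, by decide, rfl⟩
    · exact ⟨3, by decide, rfl⟩
    · exact ⟨4, by decide, rfl⟩
    · exact ⟨5, by decide, rfl⟩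

theorem finite_card : Finite Cfsg.Spor.Suz ∧ Nat.card Cfsg.Spor.Suz ≤ 448345497600 := by
  obtain ⟨hf, hb⟩ := bound0
  rw [mask_eq] at hf hb
  have h := SuzCert.H.card_mul_index
  rw [SuzCert.cert.index_eq, show SuzCert.cert.n = 1782 from rfl, ← Nat.card_coe_set_eq] at *
  haveI : Finite SuzCert.H := hf.to_subtype
  haveI : SuzCert.H.FiniteIndex := ⟨by rw [SuzCert.cert.index_eq]; show 1782 ≠ 0; norm_num⟩
  refine ⟨Subgroup.finite_iff_finite_and_finiteIndex SuzCert.H |>.2 ⟨‹_›, ‹_›⟩, ?_⟩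
  rw [← h]
  calc Nat.card SuzCert.H * 1782 ≤ 251596800 * 1782 := Nat.mul_le_mul_right _ hb
    _ = 448345497600 := by norm_num

theorem injective_card :
    Function.Injective SuzCert.cert.ρ ∧ Nat.card Cfsg.Spor.Suz = 448345497600 := by
  haveI := finite_card.1
  exact SuzCert.cert.injective_of_chain SuzSlp.slp (by decide) SuzSlp.entries_ok SuzSlp.chain SuzSlp.chain_ok
    (by decide +kernel) finite_card.2

theorem simple : IsSimpleGroup Cfsg.Spor.Suz := by
  haveI := finite_card.1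
  haveI : Nontrivial Cfsg.Spor.Suz := Finite.one_lt_card_iff_nontrivial.1 (by rw [injective_card.2]; norm_num)
  obtain ⟨q₁, h₁, h₁'⟩ := SuzCert.cert.exists_orbit (s := 1) (by decide)
    SuzData.orb1_grow SuzData.orb1_inv SuzData.orb1_count
  obtain ⟨q₂, h₂, h₂'⟩ := SuzCert.cert.exists_orbit (s := 47) (by decide)
    SuzData.orb2_grow SuzData.orb2_inv SuzData.orb2_count
  have hH : Nat.card SuzCert.H = 251596800 := by
    have h := SuzCert.H.card_mul_index
    rw [SuzCert.cert.index_eq, show SuzCert.cert.n = 1782 from rfl, injective_card.2] at h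
    exact Nat.eq_of_mul_eq_mul_right (show 0 < 1782 by norm_num) (h.trans (by norm_num))
  exact SuzCert.cert.isSimpleGroup_of_checks SuzSlp.slp injective_card.1 rfl (by decide) SuzSlp.entries_ok
    h₁ h₁' h₂ h₂' (by decide +kernel) (by decide +kernel) (by decide +kernel) (by decide) (by decide)
    (show SuzSlp.elt < SuzSlp.slp.K by decide) (by rw [hH]; decide +kernel) SuzSlp.pow_ok SuzSlp.items SuzSlp.items_ok

end H29.CosetCert.SuzOrd
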