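import Cfsg.Agent.H29.CosetCert.Upper
import Cfsg.Agent.H29.CosetCert.Pick16

/-! Certificate data for the order of Suz, produced outside Lean and checked here. -/

set_option autoImplicit false
set_option maxRecDepth 16000
set_option Elab.async false

namespace H29.CosetCert.SuzLvl3

open H29.CosetCert

/-- The facts. -/
noncomputable def facts : Tr :=
(.node
(.leaf 0x41000400000000000000300004000021000300001000020000010001)
(.leaf 0))

/-- Row. -/
noncomputable def row0 : Tr :=
(.node
(.leaf 0x30004000100020000)
(.leaf 0))

/-- Edges. -/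
noncomputable def edge0 : Tr :=
(.node
(.leaf 0x700006000030000200009)
(.leaf 0))

/-- Row. -/
noncomputable def row1 : Tr :=
(.node
(.leaf 0x40002000300000001)
(.leaf 0))

/-- Edges. -/
noncomputable def edge1 : Tr :=
(.node
(.leaf 0xb00005000040000100000)
(.leaf 0))

/-- Table rows. -/
noncomputable def rows : List Tr := [row0, row1, (.leaf 0), (.leaf 0), (.leaf 0), (.leaf 0), (.leaf 0)]

/-- Edge rows. -/
noncomputable def edges : List Tr := [edge0, edge1, (.leaf 0), (.leaf 0), (.leaf 0), (.leaf 0), (.leaf 0)]

/-- The level. -/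
noncomputable def lvl : Lvl where
  mask := 3
  sub := 1
  n := 5
  R := [[0, 1, 0, 1, 0, 1, 0, 1, 0, 1],
  [0, 0],
  [1, 1],
  []]
  S := [[0]]
  F := factAt facts
  nd := 4
  N := 6
  T x c := pick16 (rows.getD x (.leaf 0)) c
  nodeOf c := pick20 (.node
(.leaf 0x400003000020000100000)
(.leaf 0)) c
  edge x c := pick20 (edges.getD x (.leaf 0)) c

theorem words_ok : lvl.wordsOK = true := by decide +kernel

theorem defs_ok : allIn (chkDef lvl.F) 0 lvl.nd = true := by decide +kernel

theorem node0 : lvl.nodeOf 0 = 0 := by decide +kernel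

theorem closed0 : allIn lvl.closedAt 0 5 = true := by decide +kernel

theorem closed : allIn lvl.closedAt 0 5 = true := by
  rw [allIn_iff]
  intro c _ hc
  by_cases h0 : c < 5
  · exact (allIn_iff _ _ _).1 closed0 c (by omega) (by omega)
  omega

end H29.CosetCert.SuzLvl3
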