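import Cfsg.Agent.H29.CosetCert.SuzOrder.L3

/-! Certificate data for the order of Suz, produced outside Lean and checked here. -/

set_option autoImplicit false
set_option maxRecDepth 16000
set_option Elab.async false

namespace H29.CosetCert.SuzLvl3

open H29.CosetCert

/-- Steps. -/
noncomputable def st0 : List ℕ :=
  [4,
  0x6000040000200000000090000100003000050000700000000090000400000]

theorem st0_ok : chkList lvl.F lvl.R lvl.S st0 4 = true ∧ st0.length = 2 := by
  decide +kernel

end H29.CosetCert.SuzLvl3
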