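import Cfsg.Agent.H29.CosetCert.Upper
import Cfsg.Agent.H29.CosetCert.Pick16

/-! Certificate data for the order of Suz, produced outside Lean and checked here. -/

set_option autoImplicit false
set_option maxRecDepth 16000
set_option Elab.async false

namespace H29.CosetCert.SuzLvl4

open H29.CosetCert

/-- The facts. -/
noncomputable def facts : Tr :=
(.node
(.leaf 1)
(.leaf 0))

/-- Row. -/
noncomputable def row0 : Tr :=
(.node
(.leaf 1)
(.leaf 0))

/-- Edges. -/
noncomputable def edge0 : Tr :=
(.node
(.leaf 0x100000)
(.leaf 0))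

/-- Table rows. -/
noncomputable def rows : List Tr := [row0, (.leaf 0), (.leaf 0), (.leaf 0), (.leaf 0), (.leaf 0), (.leaf 0)]

/-- Edge rows. -/
noncomputable def edges : List Tr := [edge0, (.leaf 0), (.leaf 0), (.leaf 0), (.leaf 0), (.leaf 0), (.leaf 0)]

/-- The level. -/
noncomputable def lvl : Lvl where
  mask := 1
  sub := 0
  n := 2
  R := [[0, 0],
  [0, 0],
  []]
  S := []
  F := factAt facts
  nd := 1
  N := 1
  T x c := pick16 (rows.getD x (.leaf 0)) c
  nodeOf c := pick20 (.node
(.leaf 0x100000)
(.leaf 0)) c
  edge x c := pick20 (edges.getD x (.leaf 0)) c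

theorem words_ok : lvl.wordsOK = true := by decide +kernel

theorem defs_ok : allIn (chkDef lvl.F) 0 lvl.nd = true := by decide +kernel

theorem node0 : lvl.nodeOf 0 = 0 := by decide +kernel

theorem closed0 : allIn lvl.closedAt 0 2 = true := by decide +kernel

theorem closed : allIn lvl.closedAt 0 2 = true := by
  rw [allIn_iff]
  intro c _ hc
  by_cases h0 : c < 2
  · exact (allIn_iff _ _ _).1 closed0 c (by omega) (by omega)
  omega

end H29.CosetCert.SuzLvl4
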