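import Cfsg.Agent.H29.CosetCert.SuzOrder.Slp
import Cfsg.Agent.H29.CosetCert.Suz.Table

/-! Certificate data for the order of Suz, produced outside Lean and checked here. -/

set_option autoImplicit false
set_option maxRecDepth 16000
set_option Elab.async false

namespace H29.CosetCert.SuzSlp

open H29.CosetCert

theorem entry4 : slp.entryOK SuzData.T 1782 4 = true := by decide +kernel

theorem entry11 : slp.entryOK SuzData.T 1782 11 = true := by decide +kernel

theorem entry17 : slp.entryOK SuzData.T 1782 17 = true := by decide +kernel

theorem entry20 : slp.entryOK SuzData.T 1782 20 = true := by decide +kernel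

theorem entry25 : slp.entryOK SuzData.T 1782 25 = true := by decide +kernel

theorem entry27 : slp.entryOK SuzData.T 1782 27 = true := by decide +kernel

theorem entry30 : slp.entryOK SuzData.T 1782 30 = true := by decide +kernel

theorem entry32 : slp.entryOK SuzData.T 1782 32 = true := by decide +kernel

theorem entry35 : slp.entryOK SuzData.T 1782 35 = true := by decide +kernel

theorem entry36 : slp.entryOK SuzData.T 1782 36 = true := by decide +kernel

theorem entry45 : slp.entryOK SuzData.T 1782 45 = true := by decide +kernel

theorem entry47 : slp.entryOK SuzData.T 1782 47 = true := by decide +kernel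

theorem entry53 : slp.entryOK SuzData.T 1782 53 = true := by decide +kernel

theorem entry54 : slp.entryOK SuzData.T 1782 54 = true := by decide +kernel

end H29.CosetCert.SuzSlp
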